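import Cfsg.Agent.Lib.Sporadic.ThPres.SubPair.Tree0

set_option autoImplicit false
set_option maxRecDepth 20000

/-! Generated certificate: cosets of <a,c,d,e,s,t> in <acdestu> (tools/cosetbound/gen_pairs.py; generated; owner: helper9). -/

namespace CfsgLib.Sporadic.ThPres.SubPair
open CfsgLib.Recog.SporBound (Q)

noncomputable def factTree : Q (ℕ) := (.node ft0 ft1 (.leaf 0) (.leaf 0))
noncomputable def nodeTree : Q (ℕ) := ct0
noncomputable def stepTree : Q (List ℕ) := (.node st0 st1 (.leaf []) (.leaf []))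
noncomputable def finalTree : Q (List ℕ) := et0

/-- The certificate. -/
noncomputable def cert : CfsgLib.Sporadic.PairEnum.Cert where
  n := 1
  nd := 60
  nf := 174
  nl := 14
  kl := []
  facts := factTree
  cn := nodeTree
  steps := stepTree
  finals := finalTree
  rels := [[0, 0],
    [2, 2],
    [4, 4],
    [6, 6],
    [0, 6, 0, 6],
    [0, 5, 3, 5, 3, 5, 3, 5, 3],
    [2, 6, 2, 6],
    [4, 6, 4, 6, 4, 6],
    [8, 8, 8, 8, 8, 8, 8],
    [9, 1, 8, 0],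
    [9, 3, 8, 2],
    [8, 4, 8, 4],
    [7, 9, 6, 8, 9, 9, 9, 7, 8, 8, 8],
    [10, 10, 10],
    [11, 1, 10, 0],
    [11, 3, 10, 2],
    [11, 5, 10, 4],
    [11, 7, 10, 6],
    [11, 8, 10, 9, 9],
    [12, 12, 3, 1],
    [13, 1, 12, 0],
    [13, 3, 12, 2],
    [13, 7, 12, 6],
    [4, 6, 13, 4, 12, 4, 6, 13, 4, 12],
    [13, 10, 12, 10],
    [7, 9, 9, 13, 8, 8, 6, 9, 9, 12, 8, 8],
    [0, 2, 9, 13, 9, 13, 9, 13],
    [0, 2, 9, 13, 8, 12, 9, 13, 8, 12, 9, 13, 8, 12, 9, 13, 8, 12],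
    [4, 9, 9, 12, 8, 8, 4, 9, 9, 12, 8, 8, 4, 9, 9, 12, 8, 8, 4, 9, 9, 12, 8, 8, 9, 9, 7, 5, 3, 4, 6, 8, 8, 8, 7, 5, 3, 4, 6, 9, 5, 3, 4, 3, 1]]
  subs := [[0],
    [2],
    [4],
    [6],
    [8],
    [10]]

/-- Traced words with their chains. -/
noncomputable def closers : List (List ℕ × ℕ) :=
  [([12, 4, 2, 5, 13], 0x1000ad0000500001000000000600000)]

end CfsgLib.Sporadic.ThPres.SubPair
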